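import Mathlib

/-!
A bounded search for vectors of multiplicities with prescribed sums, and its soundness.
-/

set_option autoImplicit false

namespace CfsgLib.E8Three.L2

/-- A triple of counters. -/
abbrev V3 := ℕ × ℕ × ℕ

/-- A candidate constituent: its dimension, three constrained triples and two recorded triples. -/
abbrev Item := ℕ × V3 × V3 × V3 × V3 × V3

/-- The constrained and recorded triples of an item. -/
def Item.dim (it : Item) : ℕ := it.1
/-- The first constrained triple. -/
def Item.va (it : Item) : V3 := it.2.1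
/-- The second constrained triple. -/
def Item.vb (it : Item) : V3 := it.2.2.1
/-- The third constrained triple. -/
def Item.vc (it : Item) : V3 := it.2.2.2.1
/-- The first recorded triple. -/
def Item.vf (it : Item) : V3 := it.2.2.2.2.1
/-- The second recorded triple. -/
def Item.vg (it : Item) : V3 := it.2.2.2.2.2

/-- The test for a componentwise bound. -/
def le3 (v t : V3) : Bool := v.1.ble t.1 && v.2.1.ble t.2.1 && v.2.2.ble t.2.2

/-- The componentwise difference. -/
def sub3 (t v : V3) : V3 := (t.1 - v.1, t.2.1 - v.2.1, t.2.2 - v.2.2)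

/-- The componentwise sum. -/
def add3 (t v : V3) : V3 := (t.1 + v.1, t.2.1 + v.2.1, t.2.2 + v.2.2)

/-- The remaining targets. -/
def adv (S : List V3) (v : V3) : List V3 := (S.filter (le3 v)).map (sub3 · v)

/-- The test at the end of a branch. -/
def endChk (leaf : ℕ → V3 → V3 → Bool) (rem : ℕ) (A B C : List V3) (F G : V3) : Bool :=
  !(A.contains (rem, 0, 0) && B.contains (rem, 0, 0) && C.contains (rem, 0, 0)) || leaf rem F G

/-- The loop over the multiplicity of one item. -/
def loop (k : ℕ → List V3 → List V3 → List V3 → V3 → V3 → Bool) (it : Item) :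
    ℕ → ℕ → List V3 → List V3 → List V3 → V3 → V3 → Bool
  | 0, _, _, _, _, _, _ => false
  | fuel + 1, rem, A, B, C, F, G => k rem A B C F G &&
      (if it.dim.ble rem then
        ((adv A it.va).isEmpty || (adv B it.vb).isEmpty || (adv C it.vc).isEmpty ||
          loop k it fuel (rem - it.dim) (adv A it.va) (adv B it.vb) (adv C it.vc)
            (add3 F it.vf) (add3 G it.vg))
      else true)

/-- The search. -/
def search (leaf : ℕ → V3 → V3 → Bool) :
    List Item → ℕ → List V3 → List V3 → List V3 → V3 → V3 → Bool
  | [], rem, A, B, C, F, G => endChk leaf rem A B C F G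
  | it :: r, rem, A, B, C, F, G => loop (search leaf r) it 249 rem A B C F G

/-- The total of a field of the items. -/
def tot (sel : Item → V3) : List (Item × ℕ) → V3
  | [] => 0
  | (it, m) :: r => m • sel it + tot sel r

/-- The total dimension. -/
def used : List (Item × ℕ) → ℕ
  | [] => 0
  | (it, m) :: r => m * it.dim + used r

theorem mem_adv {S : List V3} {v w : V3} (h : v + w ∈ S) : w ∈ adv S v :=
  List.mem_map.mpr ⟨v + w, List.mem_filter.mpr ⟨h, by simp [le3]⟩, by simp [sub3]⟩

theorem loop_sound {k : ℕ → List V3 → List V3 → List V3 → V3 → V3 → Bool} {it : Item}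
    {wa wb wc : V3} {r : ℕ} : ∀ (m fuel rem : ℕ) (A B C : List V3) (F G : V3),
      loop k it fuel rem A B C F G = true → rem = m * it.dim + r →
      m • it.va + wa ∈ A → m • it.vb + wb ∈ B → m • it.vc + wc ∈ C →
      ∃ A' B' C', k r A' B' C' (F + m • it.vf) (G + m • it.vg) = true ∧
        wa ∈ A' ∧ wb ∈ B' ∧ wc ∈ C' := by
  intro m
  induction m with
  | zero =>
    intro fuel rem A B C F G h hr ha hb hc
    rcases fuel with _ | fuel
    · simp [loop] at h
    simp only [loop, Bool.and_eq_true] at h
    simp only [zero_smul, zero_add, zero_mul] at hr ha hb hc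
    exact ⟨A, B, C, by simpa [hr] using h.1, ha, hb, hc⟩
  | succ m ih =>
    intro fuel rem A B C F G h hr ha hb hc
    rcases fuel with _ | fuel
    · simp [loop] at h
    simp only [loop, Bool.and_eq_true] at h
    have hd : it.dim.ble rem = true := Nat.ble_eq.mpr (by rw [hr, Nat.add_mul, one_mul]; omega)
    have h2 := h.2
    rw [if_pos hd] at h2
    rw [succ_nsmul', add_assoc] at ha hb hc
    have ha' := mem_adv ha
    have hb' := mem_adv hb
    have hc' := mem_adv hc
    simp only [Bool.or_eq_true, List.isEmpty_iff] at h2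
    rcases h2 with ((h2 | h2) | h2) | h2
    · exact absurd ha' (h2 ▸ List.not_mem_nil)
    · exact absurd hb' (h2 ▸ List.not_mem_nil)
    · exact absurd hc' (h2 ▸ List.not_mem_nil)
    obtain ⟨A', B', C', hk, hm⟩ := ih fuel (rem - it.dim) _ _ _ _ _ h2
      (by rw [hr, Nat.add_mul, one_mul]; omega) ha' hb' hc'
    refine ⟨A', B', C', ?_, hm⟩
    rw [show add3 F it.vf = F + it.vf from rfl, show add3 G it.vg = G + it.vg from rfl] at hk
    rwa [succ_nsmul', ← add_assoc, succ_nsmul', ← add_assoc]

theorem search_sound {leaf : ℕ → V3 → V3 → Bool} : ∀ (c : List (Item × ℕ)) (rem r : ℕ)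
    (A B C : List V3) (F G : V3), search leaf (c.map Prod.fst) rem A B C F G = true →
      rem = used c + r → tot Item.va c + (r, 0, 0) ∈ A → tot Item.vb c + (r, 0, 0) ∈ B →
      tot Item.vc c + (r, 0, 0) ∈ C → leaf r (F + tot Item.vf c) (G + tot Item.vg c) = true := by
  intro c
  induction c with
  | nil =>
    intro rem r A B C F G h hr ha hb hc
    simp only [used, zero_add, tot] at hr ha hb hc
    subst hr
    simpa [search, endChk, tot, ha, hb, hc] using h
  | cons p c ih =>
    obtain ⟨it, m⟩ := p
    intro rem r A B C F G h hr ha hb hc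
    simp only [tot, add_assoc] at ha hb hc
    obtain ⟨A', B', C', hk, h1, h2, h3⟩ := loop_sound (r := used c + r) m _ rem A B C F G h
      (by rw [hr]; simp only [used]; omega) ha hb hc
    have := ih _ r A' B' C' _ _ hk rfl h1 h2 h3
    simpa [tot, add_assoc] using this

end CfsgLib.E8Three.L2
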