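import Cfsg.Agent.E8Three.Spec.Elem
import Cfsg.Agent.E8Three.L2.Search
import Cfsg.Agent.SL2Tensor.Weights
import Mathlib.FieldTheory.IsAlgClosed.AlgebraicClosure

/-!
From a subgroup `PSL₂(3ⁿ)` of `E₈(3)` to multiplicities of twisted tensor products, and from
these to eigenvalue counts of semisimple elements.
-/

set_option autoImplicit false
set_option linter.style.haveILetI false
set_option linter.unusedSectionVars false

namespace CfsgLib.E8Three.L2

open Cfsg.Lie Polynomial CfsgLib.SL2Tensor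

section Rep

variable {F : Type*} [Field F] [Fintype F]

/-- The representation of `SL₂` given by a subgroup isomorphic to `PSL₂`. -/
theorem exists_rep {H : Subgroup ↥(chevE8.group (ZMod 3))}
    (e : ↥H ≃* Matrix.ProjectiveSpecialLinearGroup (Fin 2) F) :
    ∃ τ : Matrix.SpecialLinearGroup (Fin 2) F →* GL chevE8.Idx (ZMod 3),
      (∀ g, τ g ∈ chevE8.group (ZMod 3)) ∧ τ (-1) = 1 ∧ ∀ g, τ g = 1 → g = 1 ∨ g = -1 := by
  refine ⟨(chevE8.group (ZMod 3)).subtype.comp (H.subtype.comp (e.symm.toMonoidHom.comp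
    (QuotientGroup.mk' (Subgroup.center (Matrix.SpecialLinearGroup (Fin 2) F))))),
    fun g => SetLike.coe_mem _, ?_, fun g hg => ?_⟩
  · have h : (-1 : Matrix.SpecialLinearGroup (Fin 2) F) ∈ Subgroup.center _ :=
      Subgroup.mem_center_iff.mpr fun g => by simp
    simp only [MonoidHom.comp_apply, QuotientGroup.mk'_apply]
    rw [(QuotientGroup.eq_one_iff _).mpr h, map_one, map_one, map_one]
  · simp only [MonoidHom.comp_apply] at hg
    have h1 : QuotientGroup.mk' (Subgroup.center (Matrix.SpecialLinearGroup (Fin 2) F)) g = 1 :=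
      e.symm.injective (by
        rw [map_one]
        exact Subtype.ext (Subtype.ext (by simpa using hg)))
    rw [QuotientGroup.mk'_apply, QuotientGroup.eq_one_iff,
      Matrix.SpecialLinearGroup.mem_center_iff] at h1
    obtain ⟨r, hr, hg'⟩ := h1
    rw [Fintype.card_fin, sq_eq_one_iff] at hr
    rcases hr with rfl | rfl
    · exact Or.inl (Subtype.ext (by rw [← hg', map_one, Matrix.SpecialLinearGroup.coe_one]))
    · exact Or.inr (Subtype.ext (by
        rw [← hg', map_neg, map_one, Matrix.SpecialLinearGroup.coe_neg,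
          Matrix.SpecialLinearGroup.coe_one]))

end Rep

variable {K : Type} [Field K] [IsAlgClosed K] [Algebra (ZMod 3) K] [CharP K 3] [DecidableEq K]
  {F : Type*} [Field F] [Fintype F] (ι : F →+* K) {n : ℕ}

local notation "G" => Matrix.SpecialLinearGroup (Fin 2) F

/-- The `N`-th power of an element with eigenvalues primitive of order `2 N`. -/
theorem pow_eq_neg_one {g : G} {u : K} {P : Matrix (Fin 2) (Fin 2) K} {N : ℕ} (hN : 0 < N)
    (hu : IsPrimitiveRoot u (2 * N)) (hP : P.det ≠ 0)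
    (h : (g : Matrix (Fin 2) (Fin 2) F).map ι * P = P * !![u, 0; 0, u⁻¹]) : g ^ N = -1 := by
  have hd : !![u, 0; 0, u⁻¹] = Matrix.diagonal ![u, u⁻¹] := by
    ext i j
    fin_cases i <;> fin_cases j <;> rfl
  have hk : ∀ k : ℕ, (ι.mapMatrix (g : Matrix (Fin 2) (Fin 2) F)) ^ k * P =
      P * !![u, 0; 0, u⁻¹] ^ k := by
    intro k
    induction k with
    | zero => simp
    | succ k ih =>
      rw [pow_succ, pow_succ, mul_assoc, RingHom.mapMatrix_apply, h, ← mul_assoc,
        ← RingHom.mapMatrix_apply, ih, mul_assoc]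
  have hN1 : u ^ N = -1 := (IsPrimitiveRoot.eq_neg_one_of_two_right
    (hu.pow (by omega) (mul_comm 2 N)))
  have hDN : !![u, 0; 0, u⁻¹] ^ N = (-1 : Matrix (Fin 2) (Fin 2) K) := by
    rw [hd, Matrix.diagonal_pow]
    ext i j
    fin_cases i <;> fin_cases j <;> simp [inv_pow, hN1, inv_neg]
  have h1 := hk N
  rw [hDN, mul_neg, mul_one, ← neg_one_mul P] at h1
  have h2 := ((Matrix.isUnit_iff_isUnit_det P).mpr hP.isUnit).mul_right_cancel h1
  refine Subtype.ext (Matrix.map_injective ι.injective ?_)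
  show ((g ^ N : G) : Matrix (Fin 2) (Fin 2) F).map ι = ((-1 : G) : Matrix (Fin 2) (Fin 2) F).map ι
  rw [← map_pow, RingHom.mapMatrix_apply] at h2
  rw [Matrix.SpecialLinearGroup.coe_pow, h2, Matrix.SpecialLinearGroup.coe_neg,
    Matrix.SpecialLinearGroup.coe_one]
  ext i j
  fin_cases i <;> fin_cases j <;> simp

/-- The eigenvalue counts of a diagonalisable element. -/
theorem spec_counts {τ : G →* GL chevE8.Idx (ZMod 3)} (hτ : ∀ g, τ g ∈ chevE8.group (ZMod 3))
    (hneg : τ (-1) = 1) {mlt : ℕ → ℕ}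
    (hroots : ∀ x : G, (((Units.coeHom _).comp τ x : Matrix chevE8.Idx chevE8.Idx (ZMod 3)).map
        (algebraMap (ZMod 3) K)).charpoly.roots =
      ∑ c ∈ Finset.range (3 ^ n), mlt c • (rhoM ι (dec n c) x).charpoly.roots)
    {g : G} {u : K} {P : Matrix (Fin 2) (Fin 2) K} {N : ℕ} (hN : ¬ 3 ∣ N)
    (hu : IsPrimitiveRoot u (2 * N)) (hP : P.det ≠ 0)
    (h : (g : Matrix (Fin 2) (Fin 2) F).map ι * P = P * !![u, 0; 0, u⁻¹]) :
    ∃ b : Fin chevE8.rank → ℤ, ∀ m : ℕ, m ∣ N →
      (∀ k : ℕ, cnt m b k = ∑ c ∈ Finset.range (3 ^ n), mlt c * wcount n m k c) ∧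
      cntVec m b ∈ classVecs m := by
  have hN0 : 0 < N := Nat.pos_of_ne_zero fun e => hN (e ▸ dvd_zero 3)
  have hξ : IsPrimitiveRoot (u ^ 2) N := hu.pow (by omega) rfl
  have hxN : τ g ^ N = 1 := by rw [← map_pow, pow_eq_neg_one ι hN0 hu hP h, hneg]
  obtain ⟨b, he, -⟩ := toral_eig hN hξ (hτ g) hxN
  have h1 := he 1
  simp only [pow_one, Nat.cast_one, one_mul] at h1
  refine ⟨b, fun m hm => ?_⟩
  obtain ⟨e, hme⟩ := hm
  have hm0 : 0 < m := Nat.pos_of_ne_zero fun e' => by rw [e', zero_mul] at hme; omega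
  have he0 : 0 < e := Nat.pos_of_ne_zero fun e' => by rw [e', mul_zero] at hme; omega
  have hue : IsPrimitiveRoot u (e * (2 * m)) := by
    rw [show e * (2 * m) = 2 * N by rw [hme]; ring]; exact hu
  have hξe : IsPrimitiveRoot ((u ^ 2) ^ e) m := hξ.pow hN0 (by rw [hme, mul_comm])
  have hpw : eig K ((τ g ^ e : GL chevE8.Idx (ZMod 3)) : Matrix chevE8.Idx chevE8.Idx (ZMod 3)) =
      (eig K (τ g : Matrix chevE8.Idx chevE8.Idx (ZMod 3))).map (· ^ e) := by
    rw [he, h1, Multiset.map_map]
    refine Multiset.map_congr rfl fun i _ => ?_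
    rw [Function.comp_apply, mul_comm, _root_.zpow_mul, zpow_natCast]
  have hcnt : ∀ k : ℕ, cnt m b k =
      (eig K ((τ g ^ e : GL chevE8.Idx (ZMod 3)) : Matrix chevE8.Idx chevE8.Idx (ZMod 3))).count
        (((u ^ 2) ^ e) ^ k) := by
    intro k
    rw [← count_eig hm0.ne' hξe, he, zpow_natCast]
    refine congrArg (Multiset.count _) (Multiset.map_congr rfl fun i _ => ?_)
    rw [_root_.zpow_mul, zpow_natCast]
  refine ⟨fun k => ?_, ?_⟩
  · have hr : eig K (τ g : Matrix chevE8.Idx chevE8.Idx (ZMod 3)) =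
        ∑ c ∈ Finset.range (3 ^ n), mlt c • (rhoM ι (dec n c) g).charpoly.roots := hroots g
    rw [hcnt, hpw, hr, ← Multiset.coe_mapAddMonoidHom, map_sum, Multiset.count_sum']
    refine Finset.sum_congr rfl fun c _ => ?_
    rw [map_nsmul, Multiset.count_nsmul, Multiset.coe_mapAddMonoidHom, roots_rhoM ι _ hP h,
      show ((u ^ 2) ^ e) ^ k = (u ^ e) ^ (2 * k) by
        simp only [← pow_mul]; ring_nf,
      count_wval hm0 hue he0]
  · have hm3 : ¬ 3 ∣ m := fun h3 => hN (hme ▸ h3.mul_right e)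
    have := eig_mem_classVecs hm3 hξe
      (x := τ g ^ e) (pow_mem (hτ g) e) (by rw [← pow_mul, mul_comm, ← hme, hxN])
    unfold cntVec
    convert this using 1
    exact List.map_congr_left fun k _ => hcnt k

/-- A unipotent element of order prime to 3 is trivial. -/
theorem eq_one_of_unipotent {I : Type} [Fintype I] [DecidableEq I] {x : GL I (ZMod 3)} {N : ℕ}
    (hN : ¬ 3 ∣ N) (hxN : x ^ N = 1)
    (h : ((x : Matrix I I (ZMod 3)).map (algebraMap (ZMod 3) K)).charpoly =
      (X - C 1) ^ Fintype.card I) : x = 1 := by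
  haveI : Fact (Nat.Prime 3) := ⟨Nat.prime_three⟩
  set M : Matrix I I (ZMod 3) := (x : Matrix I I (ZMod 3))
  set d := Fintype.card I
  have h1 : M.charpoly = (X - C 1) ^ d := by
    refine Polynomial.map_injective _ (algebraMap (ZMod 3) K).injective ?_
    rw [← Matrix.charpoly_map, h]
    simp
  have hd : M.charpoly ∣ X ^ 3 ^ d - 1 := by
    rw [h1, show (X : (ZMod 3)[X]) ^ 3 ^ d - 1 = (X - C 1) ^ 3 ^ d by
      rw [map_one, sub_pow_char_pow, one_pow]]
    exact pow_dvd_pow _ (Nat.lt_pow_self (by norm_num)).le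
  obtain ⟨q, hq⟩ := hd
  have h2 := congrArg (aeval M) hq
  simp only [map_mul, Matrix.aeval_self_charpoly, zero_mul, map_sub, map_pow, aeval_X, map_one,
    sub_eq_zero] at h2
  have h3 : x ^ 3 ^ d = 1 := Units.ext (by rw [Units.val_pow_eq_pow_val, Units.val_one]; exact h2)
  have hg : Nat.gcd N (3 ^ d) = 1 :=
    (((Nat.prime_three.coprime_iff_not_dvd).mpr hN).symm.pow_right d)
  have := pow_gcd_eq_one.mpr ⟨hxN, h3⟩
  rwa [hg, pow_one] at this

end CfsgLib.E8Three.L2

namespace CfsgLib.E8Three.L2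

open CfsgLib.SL2Tensor

/-- The distinct rotations of a code. -/
def rots (n c : ℕ) : List ℕ := ((List.range n).map fun i => (rot n)^[i] c).dedup

/-- A code whose multiplicity must vanish. -/
def deadC (n c : ℕ) : Bool :=
  ((digs n c).map Prod.fst).sum % 2 == 1 || Nat.blt 248 ((rots n c).map (dimC n)).sum

/-- The test for orbit data. -/
def okData (n : ℕ) (data : List (List ℕ)) : Bool :=
  decide data.flatten.Nodup && data.flatten.all (fun c => Nat.blt c (3 ^ n)) &&
    data.all (fun o => o.all fun c => (List.range n).any fun i => (rot n)^[i] (o.headD 0) == c) &&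
    (List.range (3 ^ n)).all (fun c => Nat.blt (rot n c) (3 ^ n) &&
      (deadC n c || data.flatten.contains c)) &&
    data.all (fun o => Nat.blt (o.headD 0) (3 ^ n))

/-- Sums over codes are sums over orbits. -/
theorem sum_orbits {n : ℕ} {data : List (List ℕ)} (hok : okData n data = true) {g : ℕ → ℕ}
    (hg : ∀ c < 3 ^ n, g (rot n c) = g c)
    (hodd : ∀ c < 3 ^ n, ((digs n c).map Prod.fst).sum % 2 = 1 → g c = 0)
    (hdim : ∑ c ∈ Finset.range (3 ^ n), g c * dimC n c = 248) :
    (∀ f : ℕ → ℕ, ∑ c ∈ Finset.range (3 ^ n), g c * f c =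
      (data.map fun o => g (o.headD 0) * (o.map f).sum).sum) ∧
    ((∀ o ∈ data, o.headD 0 ≠ 0 → g (o.headD 0) = 0) → ∀ c < 3 ^ n, c ≠ 0 → g c = 0) := by
  simp only [okData, Bool.and_eq_true, decide_eq_true_eq, List.all_eq_true, Nat.blt_eq,
    Bool.or_eq_true, List.any_eq_true, List.mem_range, beq_iff_eq, List.contains_iff_mem] at hok
  obtain ⟨⟨⟨⟨hnd, hlt⟩, horb⟩, hall⟩, hhd⟩ := hok
  have hiter : ∀ i c, c < 3 ^ n → (rot n)^[i] c < 3 ^ n ∧ g ((rot n)^[i] c) = g c := by
    intro i c hc
    induction i with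
    | zero => exact ⟨hc, rfl⟩
    | succ i ih =>
      rw [Function.iterate_succ_apply']
      exact ⟨(hall _ ih.1).1, (hg _ ih.1).trans ih.2⟩
  have hdead : ∀ c < 3 ^ n, deadC n c = true → g c = 0 := by
    intro c hc h
    simp only [deadC, Bool.or_eq_true, beq_iff_eq, Nat.blt_eq] at h
    rcases h with h | h
    · exact hodd c hc h
    by_contra h0
    have hsub : (rots n c).toFinset ⊆ Finset.range (3 ^ n) := fun d hd => by
      simp only [rots, List.mem_toFinset, List.mem_dedup, List.mem_map] at hd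
      obtain ⟨i, -, rfl⟩ := hd
      exact Finset.mem_range.mpr (hiter i c hc).1
    have hle := (Finset.sum_le_sum_of_subset hsub).trans hdim.le
    have hdimeq : ∀ d ∈ (rots n c).toFinset, g d * dimC n d = g c * dimC n d := fun d hd => by
      simp only [rots, List.mem_toFinset, List.mem_dedup, List.mem_map] at hd
      obtain ⟨i, -, rfl⟩ := hd
      rw [(hiter i c hc).2]
    rw [Finset.sum_congr rfl hdimeq, ← Finset.mul_sum,
      List.sum_toFinset _ (show (rots n c).Nodup from List.nodup_dedup _)] at hle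
    simp only [show (fun i => dimC n i) = dimC n from rfl] at hle
    have := Nat.le_mul_of_pos_left ((rots n c).map (dimC n)).sum (Nat.pos_of_ne_zero h0)
    omega
  refine ⟨fun f => ?_, fun h c hc hc0 => ?_⟩
  · rw [← Finset.sum_subset (s₁ := data.flatten.toFinset)
      (fun c hc => Finset.mem_range.mpr (hlt c (List.mem_toFinset.mp hc))) (fun c hc hnot => by
        rw [List.mem_toFinset] at hnot
        rw [hdead c (Finset.mem_range.mp hc) ((hall c (Finset.mem_range.mp hc)).2.resolve_right hnot),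
          zero_mul]),
      List.sum_toFinset _ hnd, List.map_flatten, List.sum_flatten, List.map_map]
    refine congrArg List.sum (List.map_congr_left fun o ho => ?_)
    rw [Function.comp_apply, ← List.sum_map_mul_left]
    refine congrArg List.sum (List.map_congr_left fun c hc => ?_)
    obtain ⟨i, -, rfl⟩ := horb o ho c hc
    rw [(hiter i _ (hhd o ho)).2]
  · rcases (hall c hc).2 with h' | h'
    · exact hdead c hc h'
    obtain ⟨o, ho, hco⟩ := List.mem_flatten.mp h'
    obtain ⟨i, -, hi⟩ := horb o ho c hco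
    rw [← hi, (hiter i _ (hhd o ho)).2]
    refine h o ho fun e => hc0 ?_
    rw [← hi, e]
    clear hi
    induction i with
    | zero => rfl
    | succ i ih => rw [Function.iterate_succ_apply', ih]; simp [rot]

end CfsgLib.E8Three.L2
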