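import Cfsg.Agent.E8Three.L2.Bridge

/-!
The certificate data for the exclusion of `PSL₂(243)` and `PSL₂(729)` from `E₈(3)`.
-/

set_option autoImplicit false

namespace CfsgLib.E8Three.L2

open CfsgLib.SL2Tensor

/-- The orbits of codes of small dimension for `SL₂(243)`, the trivial one first. -/
def data243 : List (List ℕ) := [
  [0],
  [242],
  [202, 122, 124, 130, 148],
  [228, 200, 116, 106, 76],
  [210, 146, 196, 104, 70],
  [156, 226, 194, 98, 52],
  [204, 128, 142, 184, 68],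
  [150, 208, 140, 178, 50],
  [132, 154, 220, 176, 44],
  [234, 218, 170, 26, 78],
  [222, 182, 62, 186, 74],
  [120, 118, 112, 94, 40],
  [198, 110, 88, 22, 66],
  [144, 190, 86, 16, 48],
  [126, 136, 166, 14, 42],
  [192, 92, 34, 102, 64],
  [138, 172, 32, 96, 46],
  [174, 38, 114, 100, 58],
  [216, 164, 8, 24, 72],
  [180, 56, 168, 20, 60],
  [108, 82, 4, 12, 36],
  [90, 28, 84, 10, 30],
  [162, 2, 6, 18, 54]]

/-- The items of the search for `SL₂(243)`. -/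
def items243 : List Item := [
  (243, (23, 22, 0), (121, 122, 0), (23, 22, 0), (0, 0, 0), (0, 0, 0)),
  (240, (20, 22, 0), (120, 120, 0), (20, 22, 0), (0, 0, 0), (0, 0, 0)),
  (180, (10, 17, 0), (90, 90, 0), (10, 17, 0), (0, 0, 0), (0, 0, 0)),
  (180, (10, 17, 0), (90, 90, 0), (10, 17, 0), (0, 0, 0), (0, 0, 0)),
  (180, (20, 16, 0), (90, 90, 0), (20, 16, 0), (0, 0, 0), (0, 0, 0)),
  (180, (20, 16, 0), (90, 90, 0), (20, 16, 0), (0, 0, 0), (0, 0, 0)),
  (180, (20, 16, 0), (90, 90, 0), (20, 16, 0), (0, 0, 0), (0, 0, 0)),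
  (180, (20, 16, 0), (90, 90, 0), (20, 16, 0), (0, 0, 0), (0, 0, 0)),
  (135, (15, 12, 0), (65, 70, 0), (15, 12, 0), (0, 0, 0), (0, 0, 0)),
  (135, (5, 13, 0), (65, 70, 0), (5, 13, 0), (0, 0, 0), (0, 0, 0)),
  (80, (10, 7, 0), (40, 40, 0), (10, 7, 0), (0, 0, 0), (0, 0, 0)),
  (60, (10, 5, 0), (30, 30, 0), (10, 5, 0), (0, 0, 0), (0, 0, 0)),
  (60, (0, 6, 0), (30, 30, 0), (0, 6, 0), (0, 0, 0), (0, 0, 0)),
  (60, (0, 6, 0), (30, 30, 0), (0, 6, 0), (0, 0, 0), (0, 0, 0)),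
  (60, (10, 5, 0), (30, 30, 0), (10, 5, 0), (0, 0, 0), (0, 0, 0)),
  (60, (10, 5, 0), (30, 30, 0), (10, 5, 0), (0, 0, 0), (0, 0, 0)),
  (60, (0, 6, 0), (30, 30, 0), (0, 6, 0), (0, 0, 0), (0, 0, 0)),
  (45, (5, 4, 0), (25, 20, 0), (5, 4, 0), (0, 0, 0), (0, 0, 0)),
  (45, (5, 4, 0), (25, 20, 0), (5, 4, 0), (0, 0, 0), (0, 0, 0)),
  (20, (0, 2, 0), (10, 10, 0), (0, 2, 0), (0, 0, 0), (0, 0, 0)),
  (20, (0, 2, 0), (10, 10, 0), (0, 2, 0), (0, 0, 0), (0, 0, 0)),
  (15, (5, 1, 0), (5, 10, 0), (5, 1, 0), (0, 0, 0), (0, 0, 0))]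

/-- The targets for the order `11`. -/
def tg11 : List V3 := [(28, 22, 0), (248, 0, 0)]

/-- The targets for the order `2`. -/
def tg2 : List V3 := [(120, 128, 0), (136, 112, 0), (248, 0, 0)]

/-- The orbits of codes of small dimension for `SL₂(729)`, the trivial one first. -/
def data729 : List (List ℕ) := [
  [0],
  [672, 560, 224],
  [684, 596, 332, 268, 76, 228],
  [630, 434, 574, 266, 70, 210],
  [468, 676, 572, 260, 52, 156],
  [612, 380, 412, 508, 68, 204],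
  [450, 622, 410, 502, 50, 150],
  [396, 460, 652, 500, 44, 132],
  [678, 578, 278, 106, 318, 226],
  [624, 416, 520, 104, 312, 208],
  [462, 658, 518, 98, 294, 154],
  [660, 524, 116, 348, 316, 220],
  [552, 200, 600, 344, 304, 184],
  [426, 550, 194, 582, 290, 142],
  [534, 146, 438, 586, 302, 178],
  [384, 424, 544, 176, 528, 128],
  [702, 650, 494, 26, 78, 234],
  [666, 542, 170, 510, 74, 222],
  [558, 218, 654, 506, 62, 186],
  [588, 308, 196],
  [420, 532, 140],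
  [360, 352, 328, 256, 40, 120],
  [354, 334, 274, 94, 282, 118],
  [594, 326, 250, 22, 66, 198],
  [432, 568, 248, 16, 48, 144],
  [378, 406, 490, 14, 42, 126],
  [576, 272, 88, 264, 64, 192],
  [414, 514, 86, 258, 46, 138],
  [522, 110, 330, 262, 58, 174],
  [306, 190, 570, 254, 34, 102],
  [342, 298, 166, 498, 38, 114],
  [288, 136, 408, 496, 32, 96],
  [516, 92, 276, 100, 300, 172],
  [364],
  [648, 488, 8, 24, 72, 216],
  [540, 164, 492, 20, 60, 180],
  [546, 182],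
  [336, 280, 112],
  [504, 56, 168],
  [324, 244, 4, 12, 36, 108],
  [270, 82, 246, 10, 30, 90],
  [486, 2, 6, 18, 54, 162],
  [252, 28, 84]]

/-- The items of the search for `SL₂(729)`. -/
def items729 : List Item := [
  (243, (27, 19, 17), (39, 34, 0), (63, 60, 60), (27, 27, 15), (39, 27, 0)),
  (216, (12, 16, 18), (36, 30, 0), (48, 54, 60), (12, 12, 0), (36, 12, 0)),
  (216, (12, 14, 20), (36, 30, 0), (60, 54, 48), (12, 12, 0), (36, 12, 0)),
  (216, (24, 18, 14), (24, 32, 0), (48, 54, 60), (24, 12, 0), (24, 12, 0)),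
  (216, (0, 14, 22), (24, 32, 0), (48, 54, 60), (0, 0, 0), (24, 0, 0)),
  (216, (12, 16, 18), (36, 30, 0), (60, 54, 48), (12, 0, 0), (36, 12, 0)),
  (216, (12, 14, 20), (36, 30, 0), (48, 54, 60), (12, 0, 0), (36, 12, 0)),
  (216, (12, 14, 20), (36, 30, 0), (60, 54, 48), (12, 12, 12), (36, 12, 0)),
  (216, (24, 18, 14), (24, 32, 0), (48, 54, 60), (24, 12, 12), (24, 12, 0)),
  (216, (12, 16, 18), (36, 30, 0), (60, 54, 48), (12, 0, 0), (36, 12, 0)),
  (216, (24, 18, 14), (24, 32, 0), (48, 54, 60), (24, 24, 12), (24, 24, 0)),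
  (216, (12, 14, 20), (36, 30, 0), (48, 54, 60), (12, 0, 0), (36, 12, 0)),
  (216, (24, 18, 14), (24, 32, 0), (60, 54, 48), (24, 0, 0), (24, 24, 0)),
  (216, (0, 14, 22), (24, 32, 0), (60, 54, 48), (0, 0, 0), (24, 0, 0)),
  (216, (12, 16, 18), (36, 30, 0), (48, 54, 60), (12, 12, 0), (36, 12, 0)),
  (162, (18, 12, 12), (18, 24, 0), (42, 42, 36), (18, 6, 6), (18, 6, 0)),
  (162, (18, 14, 10), (30, 22, 0), (42, 42, 36), (18, 18, 6), (30, 18, 0)),
  (162, (18, 16, 8), (18, 24, 0), (42, 42, 36), (18, 18, 6), (18, 18, 0)),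
  (108, (18, 9, 6), (24, 14, 0), (24, 27, 30), (18, 0, 0), (24, 18, 0)),
  (108, (18, 10, 5), (18, 15, 0), (24, 27, 30), (18, 0, 0), (18, 18, 0)),
  (96, (0, 6, 10), (12, 14, 0), (36, 24, 12), (0, 0, 0), (12, 0, 0)),
  (96, (0, 6, 10), (12, 14, 0), (12, 24, 36), (0, 0, 0), (12, 0, 0)),
  (72, (0, 4, 8), (12, 10, 0), (12, 18, 24), (0, 0, 0), (12, 0, 0)),
  (72, (0, 4, 8), (12, 10, 0), (24, 18, 12), (0, 0, 0), (12, 0, 0)),
  (72, (0, 4, 8), (12, 10, 0), (12, 18, 24), (0, 0, 0), (12, 0, 0)),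
  (72, (0, 6, 6), (0, 12, 0), (24, 18, 12), (0, 0, 0), (0, 0, 0)),
  (72, (12, 8, 2), (12, 10, 0), (12, 18, 24), (12, 0, 0), (12, 12, 0)),
  (72, (12, 6, 4), (12, 10, 0), (12, 18, 24), (12, 12, 0), (12, 12, 0)),
  (72, (12, 8, 2), (12, 10, 0), (12, 18, 24), (12, 0, 0), (12, 12, 0)),
  (72, (0, 6, 6), (0, 12, 0), (12, 18, 24), (0, 0, 0), (0, 0, 0)),
  (72, (12, 6, 4), (12, 10, 0), (24, 18, 12), (12, 0, 0), (12, 12, 0)),
  (72, (0, 4, 8), (12, 10, 0), (24, 18, 12), (0, 0, 0), (12, 0, 0)),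
  (64, (10, 6, 3), (10, 9, 0), (12, 16, 20), (10, 2, 0), (10, 8, 0)),
  (54, (6, 6, 2), (6, 8, 0), (18, 12, 12), (6, 6, 6), (6, 6, 0)),
  (54, (6, 6, 2), (6, 8, 0), (18, 12, 12), (6, 6, 6), (6, 6, 0)),
  (54, (6, 4, 4), (6, 8, 0), (14, 14, 12), (6, 2, 2), (6, 2, 0)),
  (48, (12, 5, 1), (12, 6, 0), (18, 12, 6), (12, 12, 6), (12, 12, 0)),
  (27, (9, 2, 1), (9, 3, 0), (9, 6, 6), (9, 9, 3), (9, 9, 0)),
  (24, (0, 2, 2), (0, 4, 0), (0, 6, 12), (0, 0, 0), (0, 0, 0)),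
  (24, (0, 2, 2), (0, 4, 0), (12, 6, 0), (0, 0, 0), (0, 0, 0)),
  (18, (6, 2, 0), (6, 2, 0), (6, 6, 0), (6, 6, 6), (6, 6, 0)),
  (12, (6, 1, 0), (6, 1, 0), (0, 3, 6), (6, 0, 0), (6, 6, 0))]

/-- The targets for the order `13`. -/
def tg13 : List V3 := [(20, 19, 19), (32, 18, 18), (38, 11, 24), (38, 24, 11), (80, 1, 27), (80, 27, 1), (248, 0, 0)]

/-- The targets for the order `7`. -/
def tg7 : List V3 := [(38, 35, 0), (80, 28, 0), (248, 0, 0)]

/-- The targets for the order `4`. -/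
def tg4 : List V3 := [(60, 64, 60), (64, 64, 56), (66, 56, 70), (70, 56, 66), (82, 56, 54), (92, 64, 28), (120, 0, 128), (134, 56, 2), (136, 0, 112), (248, 0, 0)]

/-- The weight count of an orbit. -/
def oc (n m k : ℕ) (o : List ℕ) : ℕ := (o.map (wcount n m k)).sum

/-- The dimension of an orbit. -/
def od (n : ℕ) (o : List ℕ) : ℕ := (o.map (dimC n)).sum

/-- The item of an orbit for `SL₂(243)`. -/
def itemOf243 (o : List ℕ) : Item :=
  (od 5 o, (oc 5 11 0 o, oc 5 11 1 o, 0), (oc 5 2 0 o, oc 5 2 1 o, 0),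
    (oc 5 11 0 o, oc 5 11 1 o, 0), (0, 0, 0), (0, 0, 0))

/-- The item of an orbit for `SL₂(729)`. -/
def itemOf729 (o : List ℕ) : Item :=
  (od 6 o, (oc 6 13 0 o, oc 6 13 1 o, oc 6 13 2 o), (oc 6 7 0 o, oc 6 7 1 o, 0),
    (oc 6 4 0 o, oc 6 4 1 o, oc 6 4 2 o), (oc 6 13 0 o, oc 6 26 0 o, oc 6 52 0 o),
    (oc 6 7 0 o, oc 6 14 0 o, 0))

/-- The final test for `SL₂(243)`. -/
def leaf243 (r : ℕ) (_ _ : V3) : Bool := r == 248

/-- The final test for `SL₂(729)`. -/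
def leaf729 (r : ℕ) (F G : V3) : Bool :=
  r == 248 || (F.1 + r == 38 && F.2.1 + r == 34 && F.2.2 + r == 28) ||
    (G.1 + r == 38 && G.2.1 + r == 36)

theorem okData243 : okData 5 data243 = true := by decide +kernel

theorem okData729 : okData 6 data729 = true := by decide +kernel

set_option synthInstance.maxSize 512 in
theorem items243_eq : data243.tail.map itemOf243 = items243 := by decide +kernel

set_option synthInstance.maxSize 512 in
theorem items729_eq : data729.tail.map itemOf729 = items729 := by decide +kernel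

theorem rot5 : ∀ c < 3 ^ 5, ∀ i : Fin 5, rot 5 c / 3 ^ i.val % 3 =
    c / 3 ^ ((finRotate 5).symm i).val % 3 := by decide +kernel

theorem rot6 : ∀ c < 3 ^ 6, ∀ i : Fin 6, rot 6 c / 3 ^ i.val % 3 =
    c / 3 ^ ((finRotate 6).symm i).val % 3 := by decide +kernel

theorem class11 : (classVecs 11).all (fun v =>
    tg11.contains (v.getD 0 0, v.getD 1 0, 0)) = true := by decide +kernel

theorem class2 : (classVecs 2).all (fun v =>
    tg2.contains (v.getD 0 0, v.getD 1 0, 0)) = true := by decide +kernel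

theorem class13 : (classVecs 13).all (fun v =>
    tg13.contains (v.getD 0 0, v.getD 1 0, v.getD 2 0)) = true := by decide +kernel

theorem class7 : (classVecs 7).all (fun v =>
    tg7.contains (v.getD 0 0, v.getD 1 0, 0)) = true := by decide +kernel

theorem class4 : (classVecs 4).all (fun v =>
    tg4.contains (v.getD 0 0, v.getD 1 0, v.getD 2 0)) = true := by decide +kernel

theorem search243 : search leaf243 items243 248 tg11 tg2 tg11 (0, 0, 0) (0, 0, 0) = true := by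
  decide +kernel

theorem search729 : search leaf729 items729 248 tg13 tg7 tg4 (0, 0, 0) (0, 0, 0) = true := by
  decide +kernel

end CfsgLib.E8Three.L2
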