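import Cfsg.Agent.E8Three.Spec.Elem

/-!
Two joint conditions on the fixed multiplicities of elements of orders `52` and `14` of `E₈(3)`.
-/

set_option autoImplicit false

namespace CfsgLib.E8Three.L2

open Cfsg.Lie

/-- A class vector of order `13`. -/
def v13a : List ℕ := [38, 24, 11, 24, 24, 11, 11, 11, 11, 24, 24, 11, 24]

/-- The other class vector of order `13` with fixed multiplicity `38`. -/
def v13b : List ℕ := [38, 11, 24, 11, 11, 24, 24, 24, 24, 11, 11, 24, 11]

/-- The class vector of order `7` with fixed multiplicity `38`. -/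
def v7a : List ℕ := [38, 35, 35, 35, 35, 35, 35]

theorem v13_only : (classVecs 13).all (fun v => v.headD 0 != 38 || v == v13a || v == v13b) =
    true := by decide +kernel

theorem v7_only : (classVecs 7).all (fun v => v.headD 0 != 38 || v == v7a) = true := by
  decide +kernel

theorem kac13a : (kac 13).all (fun a => mvec 13 a != v13a || a == [2, 0, 0, 0, 0, 1, 0, 0]) =
    true := by decide +kernel

theorem kac7a : (kac 7).all (fun a => mvec 7 a != v7a || a == [1, 0, 0, 0, 0, 1, 0, 0]) =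
    true := by decide +kernel

theorem levi13 : leviChk 13 [2, 0, 0, 0, 0, 1, 0, 0] = true := by decide +kernel

theorem levi7 : leviChk 7 [1, 0, 0, 0, 0, 1, 0, 0] = true := by decide +kernel

/-- The roots killed by the chosen class. -/
def levRoots : List (List ℕ) := [[0,0,0,0,0,0,0,1], [0,0,0,0,0,0,1,0], [0,0,0,0,0,0,1,1],
  [0,0,0,0,1,0,0,0], [0,0,0,1,0,0,0,0], [0,0,0,1,1,0,0,0], [0,0,1,0,0,0,0,0], [0,0,1,1,0,0,0,0],
  [0,0,1,1,1,0,0,0], [0,1,0,0,0,0,0,0], [0,1,0,1,0,0,0,0], [0,1,0,1,1,0,0,0], [0,1,1,1,0,0,0,0],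
  [0,1,1,1,1,0,0,0], [0,1,1,2,1,0,0,0]]

theorem lev13_eq : posRoots.filter (fun p => ldot p [2, 0, 0, 0, 0, 1, 0, 0] % 13 == 0) =
    levRoots := by decide +kernel

theorem lev7_eq : posRoots.filter (fun p => ldot p [1, 0, 0, 0, 0, 1, 0, 0] % 7 == 0) =
    levRoots := by decide +kernel

/-- The fixed multiplicity on the smaller root system. -/
def jlev (d : ℕ) (y : List ℕ) : ℕ := 8 + 2 * levRoots.countP (fun p => ldot p y % d == 0)

theorem ys13 : (ysAux 4 [2, 0, 0, 0, 0, 1, 0, 0]).all (fun y =>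
    !(jlev 2 y == 34 && jlev 4 y == 28)) = true := by decide +kernel

theorem ys7 : (ysAux 2 [1, 0, 0, 0, 0, 1, 0, 0]).all (fun y => jlev 2 y != 36) = true := by
  decide +kernel

theorem expVec_smul (c : ℤ) (b : Fin chevE8.rank → ℤ) (i : chevE8.Idx) :
    expVec (fun j => c * b j) i = c * expVec b i := by
  rcases i with i | r
  · simp [expVec]
  · simp only [expVec, Sum.elim_inr, val, Finset.mul_sum]
    exact Finset.sum_congr rfl fun j _ => by ring

theorem cnt_smul {m : ℕ} {c : ℤ} (hc : IsCoprime (m : ℤ) c) (b : Fin chevE8.rank → ℤ) (k k' : ℤ)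
    (hk : (m : ℤ) ∣ c * k - k') : cnt m (fun j => c * b j) k' = cnt m b k := by
  refine congrArg Finset.card (Finset.filter_congr fun i _ => ?_)
  rw [expVec_smul]
  constructor
  · intro h
    refine hc.dvd_of_dvd_mul_left ?_
    have := dvd_sub h hk
    rwa [show c * expVec b i - k' - (c * k - k') = c * (expVec b i - k) by ring] at this
  · intro h
    have := dvd_add (h.mul_left c) hk
    rwa [show c * (expVec b i - k) + (c * k - k') = c * expVec b i - k' by ring] at this

theorem joint13a (b : Fin chevE8.rank → ℤ) (h : cntVec 13 b = v13a) :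
    ¬(cnt 26 b 0 = 34 ∧ cnt 52 b 0 = 28) := by
  intro ⟨h26, h52⟩
  have hA : ∀ a ∈ kac 13, mvec 13 a = cntVec 13 b → a = [2, 0, 0, 0, 0, 1, 0, 0] := fun a ha e => by
    have := List.all_eq_true.mp kac13a a ha
    rw [h] at e
    simpa [e] using this
  obtain ⟨a, ha, e, y, hy, hd⟩ := spec_joint (n1 := 13) (n2 := 4) (by norm_num) (by norm_num)
    (by norm_num) b fun a ha e => by rw [hA a ha e]; exact levi13
  obtain rfl := hA a ha e
  have hj : ∀ d, jfix 13 d [2, 0, 0, 0, 0, 1, 0, 0] y = jlev d y := fun d => by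
    rw [jfix, jlev, ← lev13_eq, List.countP_filter]
    exact congrArg (fun q => 8 + 2 * List.countP q posRoots) (funext fun p => Bool.and_comm _ _)
  have h1 := hd 2 (by norm_num)
  have h2 := hd 4 (by norm_num)
  rw [hj] at h1 h2
  have := List.all_eq_true.mp ys13 y hy
  simp only [show (13 * 2 : ℕ) = 26 from rfl, show (13 * 4 : ℕ) = 52 from rfl] at h1 h2
  rw [← h1, ← h2, h26, h52] at this
  simp at this

theorem joint13 (b : Fin chevE8.rank → ℤ) (hv : cntVec 13 b ∈ classVecs 13)
    (h13 : cnt 13 b 0 = 38) : ¬(cnt 26 b 0 = 34 ∧ cnt 52 b 0 = 28) := by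
  have h0 : (cntVec 13 b).headD 0 = 38 := h13
  have := List.all_eq_true.mp v13_only _ hv
  simp only [h0, bne_self_eq_false, Bool.false_or, Bool.or_eq_true, beq_iff_eq] at this
  rcases this with h | h
  · exact joint13a b h
  · intro ⟨h26, h52⟩
    have hk : ∀ k : ℕ, cnt 13 b k = v13b.getD (k % 13) 0 := fun k => by
      rw [← h, cntVec, List.getD_eq_getElem _ _ (by simpa using Nat.mod_lt _ (by norm_num)),
        List.getElem_map, List.getElem_range]
      refine congrArg Finset.card (Finset.filter_congr fun i _ => ?_)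
      have : (13 : ℤ) ∣ (k : ℤ) - ((k % 13 : ℕ) : ℤ) := ⟨((k / 13 : ℕ) : ℤ), by omega⟩
      constructor <;> intro h' <;> push_cast at h' this ⊢ <;> omega
    refine joint13a (fun j => 5 * b j) ?_ ⟨?_, ?_⟩
    · refine Eq.trans (List.map_congr_left (g := fun k => v13b.getD (8 * k % 13) 0) fun k _ => ?_)
        (by decide +kernel)
      rw [cnt_smul (by norm_num [Int.isCoprime_iff_gcd_eq_one]) b ((8 * k : ℕ) : ℤ) k
        ⟨3 * k, by push_cast; ring⟩, hk]
    · rw [cnt_smul (by norm_num [Int.isCoprime_iff_gcd_eq_one]) b 0 0 (by simp), h26]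
    · rw [cnt_smul (by norm_num [Int.isCoprime_iff_gcd_eq_one]) b 0 0 (by simp), h52]

theorem joint7 (b : Fin chevE8.rank → ℤ) (hv : cntVec 7 b ∈ classVecs 7)
    (h7 : cnt 7 b 0 = 38) : cnt 14 b 0 ≠ 36 := by
  intro h14
  have h0 : (cntVec 7 b).headD 0 = 38 := h7
  have h := List.all_eq_true.mp v7_only _ hv
  simp only [h0, bne_self_eq_false, Bool.false_or, beq_iff_eq] at h
  have hA : ∀ a ∈ kac 7, mvec 7 a = cntVec 7 b → a = [1, 0, 0, 0, 0, 1, 0, 0] := fun a ha e => by
    have := List.all_eq_true.mp kac7a a ha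
    rw [h] at e
    simpa [e] using this
  obtain ⟨a, ha, e, y, hy, hd⟩ := spec_joint (n1 := 7) (n2 := 2) (by norm_num) (by norm_num)
    (by norm_num) b fun a ha e => by rw [hA a ha e]; exact levi7
  obtain rfl := hA a ha e
  have h1 := hd 2 (by norm_num)
  rw [show jfix 7 2 [1, 0, 0, 0, 0, 1, 0, 0] y = jlev 2 y by
    rw [jfix, jlev, ← lev7_eq, List.countP_filter]
    exact congrArg (fun q => 8 + 2 * List.countP q posRoots) (funext fun p => Bool.and_comm _ _),
    show (7 * 2 : ℕ) = 14 from rfl] at h1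
  have := List.all_eq_true.mp ys7 y hy
  rw [← h1, h14] at this
  simp at this

end CfsgLib.E8Three.L2
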