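import Cfsg.Agent.E8Three.L2.Data
import Cfsg.Agent.E8Three.L2.Joint

/-!
`E₈(3)` has no subgroup `PSL₂(243)` or `PSL₂(729)`.
-/

set_option autoImplicit false
set_option linter.style.haveILetI false

namespace CfsgLib.E8Three.L2

open Cfsg.Lie Polynomial CfsgLib.SL2Tensor

theorem sum_tail {g : ℕ → ℕ} {f : ℕ → ℕ} (tl : List (List ℕ)) :
    ((([0] :: tl)).map fun o => g (o.headD 0) * (o.map f).sum).sum =
      (tl.map fun o => g (o.headD 0) * (o.map f).sum).sum + g 0 * f 0 := by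
  simp [add_comm]

theorem tot_map (itemOf : List ℕ → Item) (g : ℕ → ℕ) (sel : Item → V3) (f1 f2 f3 : List ℕ → ℕ)
    (h : ∀ o, sel (itemOf o) = (f1 o, f2 o, f3 o)) (tl : List (List ℕ)) :
    tot sel (tl.map fun o => (itemOf o, g (o.headD 0))) =
      ((tl.map fun o => g (o.headD 0) * f1 o).sum, (tl.map fun o => g (o.headD 0) * f2 o).sum,
        (tl.map fun o => g (o.headD 0) * f3 o).sum) := by
  induction tl with
  | nil => rfl
  | cons o tl ih => simp only [List.map_cons, tot, ih, h, List.sum_cons, Prod.smul_mk, smul_eq_mul,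
      Prod.mk_add_mk]

theorem used_map (itemOf : List ℕ → Item) (g : ℕ → ℕ) (f : List ℕ → ℕ)
    (h : ∀ o, (itemOf o).dim = f o) (tl : List (List ℕ)) :
    used (tl.map fun o => (itemOf o, g (o.headD 0))) =
      (tl.map fun o => g (o.headD 0) * f o).sum := by
  induction tl with
  | nil => rfl
  | cons o tl ih => simp only [List.map_cons, used, ih, h, List.sum_cons]

theorem used_zero : ∀ c : List (Item × ℕ), used c = 0 → (∀ p ∈ c, 0 < p.1.dim) →
    ∀ p ∈ c, p.2 = 0 := by
  intro c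
  induction c with
  | nil => simp
  | cons q c ih =>
    obtain ⟨it, m⟩ := q
    intro h hpos p hp
    simp only [used, Nat.add_eq_zero_iff, mul_eq_zero] at h
    rcases List.mem_cons.mp hp with rfl | hp
    · exact h.1.resolve_right (hpos _ List.mem_cons_self).ne'
    · exact ih h.2 (fun p hp => hpos p (List.mem_cons_of_mem _ hp)) p hp

theorem card_idx : Fintype.card chevE8.Idx = 248 := by
  rw [Fintype.card_sum, Fintype.card_fin, Fintype.card_fin]
  rfl

variable {F : Type*} [Field F] [Fintype F] {n : ℕ} (hF : Fintype.card F = 3 ^ n)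
include hF

/-- The standing data: the representation, a root of unity of order `q - 1` and the
multiplicities. -/
theorem setup (hn : 1 < n) {H : Subgroup ↥(chevE8.group (ZMod 3))}
    (e : ↥H ≃* Matrix.ProjectiveSpecialLinearGroup (Fin 2) F)
    (hrot : ∀ c < 3 ^ n, ∀ i : Fin n, rot n c / 3 ^ i.val % 3 =
      c / 3 ^ ((finRotate n).symm i).val % 3) {data : List (List ℕ)}
    (hok : okData n data = true) {N : ℕ} (hN : ¬ 3 ∣ N) (hq : 2 * N = 3 ^ n - 1) :
    ∃ g : ℕ → ℕ,
      (∀ f : ℕ → ℕ, ∑ c ∈ Finset.range (3 ^ n), g c * f c =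
        (data.map fun o => g (o.headD 0) * (o.map f).sum).sum) ∧
      (∑ c ∈ Finset.range (3 ^ n), g c * dimC n c = 248) ∧
      ¬ (∀ o ∈ data, o.headD 0 ≠ 0 → g (o.headD 0) = 0) ∧
      (∃ b : Fin chevE8.rank → ℤ, ∀ m : ℕ, m ∣ N →
        (∀ k : ℕ, cnt m b k = ∑ c ∈ Finset.range (3 ^ n), g c * wcount n m k c) ∧
        cntVec m b ∈ classVecs m) ∧
      (3 ^ n % 4 = 3 → ∃ b : Fin chevE8.rank → ℤ,
        (∀ k : ℕ, cnt 2 b k = ∑ c ∈ Finset.range (3 ^ n), g c * wcount n 2 k c) ∧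
        cntVec 2 b ∈ classVecs 2) := by
  classical
  haveI : Fact (Nat.Prime 3) := ⟨Nat.prime_three⟩
  haveI : CharP F 3 := by
    obtain ⟨p, hp⟩ := CharP.exists F
    haveI := hp
    obtain ⟨k, hpp, hk⟩ := FiniteField.card F p
    have h1 : (3 : ℕ) ∣ p ^ (k : ℕ) := by rw [← hk, hF]; exact dvd_pow_self 3 (by omega)
    rwa [(Nat.prime_dvd_prime_iff_eq Nat.prime_three hpp).mp (Nat.prime_three.dvd_of_dvd_pow h1)]
  letI : Algebra (ZMod 3) F := ZMod.algebra F 3
  let K := AlgebraicClosure (ZMod 3)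
  haveI : CharP K 3 := charP_of_injective_ringHom (algebraMap (ZMod 3) K).injective 3
  let ι : F →+* K := (IsAlgClosed.lift (R := ZMod 3) (S := F) (M := K)).toRingHom
  obtain ⟨τ, hτ, hneg, hker⟩ := exists_rep e
  let ρ := (Units.coeHom (Matrix chevE8.Idx chevE8.Idx (ZMod 3))).comp τ
  obtain ⟨g, hroots, hg, hodd, hdim, htriv⟩ := mult_data ι hF ρ
    (by simp [ρ, hneg]) hrot
  rw [card_idx] at hdim
  obtain ⟨hsum, hzero⟩ := sum_orbits hok hg hodd hdim
  obtain ⟨z, hz⟩ := IsCyclic.exists_ofOrder_eq_natCard (α := Fˣ)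
  have hzo : orderOf z = 2 * N := by
    rw [hz, Nat.card_eq_fintype_card, Fintype.card_units, hF, hq]
  have hu : IsPrimitiveRoot (ι z) (2 * N) := by
    rw [← hzo, ← orderOf_units, ← orderOf_injective ι.toMonoidHom ι.injective]
    exact IsPrimitiveRoot.orderOf _
  have hdg : ((dgE z : Matrix.SpecialLinearGroup (Fin 2) F) : Matrix (Fin 2) (Fin 2) F).map ι * 1 =
      1 * !![ι z, 0; 0, (ι z)⁻¹] := by
    rw [mul_one, one_mul]
    ext x y
    fin_cases x <;> fin_cases y <;> simp [dgE]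
  have hN0 : 0 < N := Nat.pos_of_ne_zero fun e => hN (e ▸ dvd_zero 3)
  refine ⟨g, hsum, hdim, fun h => ?_, spec_counts ι hτ hneg hroots hN hu (P := 1) (by simp) hdg,
    fun h4 => ?_⟩
  · -- all unipotent: the torus element is central
    have hc := htriv (hzero h) (dgE z)
    have hp := pow_eq_neg_one ι hN0 hu (P := 1) (by simp) hdg
    have h1 : τ (dgE z) = 1 := eq_one_of_unipotent (K := K) hN
      (by rw [← map_pow, hp, hneg]) hc
    have h2 : (z : F) ^ 2 = 1 := by
      rcases hker _ h1 with h' | h' <;>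
        · have := congrArg (fun A : Matrix.SpecialLinearGroup (Fin 2) F =>
            (A : Matrix (Fin 2) (Fin 2) F) 0 0) h'
          simp [dgE] at this
          simp [this]
    have h3 : orderOf z ∣ 2 := orderOf_dvd_of_pow_eq_one (Units.ext (by simpa using h2))
    rw [hzo] at h3
    have := Nat.le_of_dvd (by norm_num) h3
    have : 3 ^ 2 ≤ 3 ^ n := Nat.pow_le_pow_right (by norm_num) hn
    omega
  · obtain ⟨u, hu4⟩ : ∃ u : K, IsPrimitiveRoot u (2 * 2) := by
      haveI : NeZero ((4 : ℕ) : K) :=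
        ⟨by rw [Ne, CharP.cast_eq_zero_iff K 3]; norm_num⟩
      obtain ⟨u, hu⟩ := HasEnoughRootsOfUnity.exists_primitiveRoot K 4
      exact ⟨u, hu⟩
    have hu2 : u ^ 2 = -1 := (hu4.pow (by norm_num) rfl : IsPrimitiveRoot (u ^ 2) 2).eq_neg_one_of_two_right
    have hu0 : u ≠ 0 := hu4.ne_zero (by norm_num)
    have huinv : u⁻¹ = -u := by
      refine inv_eq_of_mul_eq_one_right ?_
      rw [mul_neg, ← sq, hu2, neg_neg]
    let w : Matrix.SpecialLinearGroup (Fin 2) F := ⟨!![0, -1; 1, 0], by simp [Matrix.det_fin_two]⟩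
    obtain ⟨b, hb⟩ := spec_counts ι hτ hneg hroots (g := w) (P := !![u, u⁻¹; 1, 1])
      (show ¬ 3 ∣ 2 by norm_num) hu4 (by
        rw [Matrix.det_fin_two, huinv]
        simp only [Matrix.of_apply, Matrix.cons_val_zero, Matrix.cons_val_one,
          Matrix.cons_val_fin_one, mul_one, sub_neg_eq_add, ← two_mul]
        refine mul_ne_zero ?_ hu0
        intro h2
        have : ((2 : ℕ) : K) = 0 := by exact_mod_cast h2
        rw [CharP.cast_eq_zero_iff K 3] at this
        norm_num at this) (by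
        rw [huinv]
        ext x y
        fin_cases x <;> fin_cases y <;>
          simp [w, Matrix.mul_apply, Fin.sum_univ_two, ← sq, hu2])
    exact ⟨b, hb 2 dvd_rfl⟩

end CfsgLib.E8Three.L2

namespace CfsgLib.E8Three.L2

open Cfsg.Lie CfsgLib.SL2Tensor

variable {F : Type*} [Field F] [Fintype F]

theorem items729_pos : items729.all (fun it => Nat.blt 0 it.dim) = true := by decide +kernel

theorem items243_pos : items243.all (fun it => Nat.blt 0 it.dim) = true := by decide +kernel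

theorem no_psl729 (hF : Fintype.card F = 729) (H : Subgroup ↥(chevE8.group (ZMod 3))) :
    IsEmpty (↥H ≃* Matrix.ProjectiveSpecialLinearGroup (Fin 2) F) := by
  refine ⟨fun e => ?_⟩
  obtain ⟨g, hsum, hdim, hne, ⟨b, hb⟩, -⟩ := setup (n := 6) (hF.trans (by norm_num)) (by norm_num)
    e rot6 okData729 (N := 364) (by norm_num) (by norm_num)
  set tl := data729.tail
  have hdata : data729 = [0] :: tl := rfl
  set c : List (Item × ℕ) := tl.map fun o => (itemOf729 o, g (o.headD 0))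
  have hc : c.map Prod.fst = items729 := by
    rw [← items729_eq, List.map_map]; rfl
  have hN : ∀ m k : ℕ, m ∣ 364 → cnt m b k =
      (tl.map fun o => g (o.headD 0) * oc 6 m k o).sum + g 0 * wcount 6 m k 0 := fun m k hm => by
    rw [(hb m hm).1 k, hsum, hdata, sum_tail]; rfl
  have hd : 248 = used c + g 0 := by
    rw [used_map itemOf729 g (od 6) (fun o => rfl), ← hdim, hsum, hdata, sum_tail,
      show dimC 6 0 = 1 by decide +kernel, mul_one]
    rfl
  have hw : wcount 6 13 0 0 = 1 ∧ wcount 6 13 1 0 = 0 ∧ wcount 6 13 2 0 = 0 ∧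
      wcount 6 7 0 0 = 1 ∧ wcount 6 7 1 0 = 0 ∧ wcount 6 4 0 0 = 1 ∧ wcount 6 4 1 0 = 0 ∧
      wcount 6 4 2 0 = 0 ∧ wcount 6 26 0 0 = 1 ∧ wcount 6 52 0 0 = 1 ∧ wcount 6 14 0 0 = 1 := by
    decide +kernel
  obtain ⟨w1, w2, w3, w4, w5, w6, w7, w8, w9, w10, w11⟩ := hw
  have hA : tot Item.va c + (g 0, 0, 0) ∈ tg13 := by
    have h := List.all_eq_true.mp class13 _ (hb 13 (by norm_num)).2
    rw [List.contains_iff_mem, show ((cntVec 13 b).getD 0 0, (cntVec 13 b).getD 1 0,
      (cntVec 13 b).getD 2 0) = (cnt 13 b (0 : ℕ), cnt 13 b (1 : ℕ), cnt 13 b (2 : ℕ)) from rfl,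
      hN 13 0 (by norm_num), hN 13 1 (by norm_num), hN 13 2 (by norm_num), w1, w2, w3] at h
    rw [tot_map itemOf729 g Item.va _ _ _ fun o => rfl]
    simpa [c] using h
  have hB : tot Item.vb c + (g 0, 0, 0) ∈ tg7 := by
    have h := List.all_eq_true.mp class7 _ (hb 7 (by norm_num)).2
    rw [List.contains_iff_mem, show ((cntVec 7 b).getD 0 0, (cntVec 7 b).getD 1 0, 0) =
      (cnt 7 b (0 : ℕ), cnt 7 b (1 : ℕ), 0) from rfl,
      hN 7 0 (by norm_num), hN 7 1 (by norm_num), w4, w5] at h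
    rw [tot_map itemOf729 g Item.vb _ _ (fun _ => 0) fun o => rfl]
    simpa [c] using h
  have hC : tot Item.vc c + (g 0, 0, 0) ∈ tg4 := by
    have h := List.all_eq_true.mp class4 _ (hb 4 (by norm_num)).2
    rw [List.contains_iff_mem, show ((cntVec 4 b).getD 0 0, (cntVec 4 b).getD 1 0,
      (cntVec 4 b).getD 2 0) = (cnt 4 b (0 : ℕ), cnt 4 b (1 : ℕ), cnt 4 b (2 : ℕ)) from rfl,
      hN 4 0 (by norm_num), hN 4 1 (by norm_num), hN 4 2 (by norm_num), w6, w7, w8] at h
    rw [tot_map itemOf729 g Item.vc _ _ _ fun o => rfl]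
    simpa [c] using h
  have hl := search_sound c 248 (g 0) tg13 tg7 tg4 (0, 0, 0) (0, 0, 0)
    (by rw [hc]; exact search729) hd hA hB hC
  rw [tot_map itemOf729 g Item.vf _ _ _ fun o => rfl,
    tot_map itemOf729 g Item.vg _ _ (fun _ => 0) fun o => rfl] at hl
  simp only [leaf729, Prod.fst_add, Prod.snd_add, zero_add, Bool.or_eq_true, Bool.and_eq_true,
    beq_iff_eq] at hl
  have h13 := hN 13 0 (by norm_num)
  have h26 := hN 26 0 (by norm_num)
  have h52 := hN 52 0 (by norm_num)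
  have h7 := hN 7 0 (by norm_num)
  have h14 := hN 14 0 (by norm_num)
  rw [w1, mul_one] at h13
  rw [w9, mul_one] at h26
  rw [w10, mul_one] at h52
  rw [w4, mul_one] at h7
  rw [w11, mul_one] at h14
  simp only [Nat.cast_zero] at h13 h26 h52 h7 h14
  rcases hl with (hl | ⟨⟨h1, h2⟩, h3⟩) | ⟨h1, h2⟩
  · refine hne fun o ho ho0 => ?_
    have hu : used c = 0 := by omega
    have hpos : ∀ p ∈ c, 0 < p.1.dim := fun p hp => by
      have : p.1 ∈ items729 := hc ▸ List.mem_map_of_mem hp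
      simpa using List.all_eq_true.mp items729_pos _ this
    rw [hdata, List.mem_cons] at ho
    rcases ho with rfl | ho
    · exact absurd rfl ho0
    exact used_zero c hu hpos _ (List.mem_map.mpr ⟨o, ho, rfl⟩)
  · exact joint13 b (hb 13 (by norm_num)).2 (h13.trans h1) ⟨h26.trans h2, h52.trans h3⟩
  · exact joint7 b (hb 7 (by norm_num)).2 (h7.trans h1) (h14.trans h2)

theorem no_psl243 (hF : Fintype.card F = 243) (H : Subgroup ↥(chevE8.group (ZMod 3))) :
    IsEmpty (↥H ≃* Matrix.ProjectiveSpecialLinearGroup (Fin 2) F) := by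
  refine ⟨fun e => ?_⟩
  obtain ⟨g, hsum, hdim, hne, ⟨b, hb⟩, hinv⟩ := setup (n := 5) (hF.trans (by norm_num)) (by norm_num)
    e rot5 okData243 (N := 121) (by norm_num) (by norm_num)
  obtain ⟨b2, hb2, hb2'⟩ := hinv (by norm_num)
  set tl := data243.tail
  have hdata : data243 = [0] :: tl := rfl
  set c : List (Item × ℕ) := tl.map fun o => (itemOf243 o, g (o.headD 0))
  have hc : c.map Prod.fst = items243 := by
    rw [← items243_eq, List.map_map]; rfl
  have h11 : ∀ k : ℕ, cnt 11 b k =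
      (tl.map fun o => g (o.headD 0) * oc 5 11 k o).sum + g 0 * wcount 5 11 k 0 := fun k => by
    rw [(hb 11 (by norm_num)).1 k, hsum, hdata, sum_tail]; rfl
  have h2 : ∀ k : ℕ, cnt 2 b2 k =
      (tl.map fun o => g (o.headD 0) * oc 5 2 k o).sum + g 0 * wcount 5 2 k 0 := fun k => by
    rw [hb2 k, hsum, hdata, sum_tail]; rfl
  have hd : 248 = used c + g 0 := by
    rw [used_map itemOf243 g (od 5) (fun o => rfl), ← hdim, hsum, hdata, sum_tail,
      show dimC 5 0 = 1 by decide +kernel, mul_one]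
    rfl
  have hw : wcount 5 11 0 0 = 1 ∧ wcount 5 11 1 0 = 0 ∧
      wcount 5 2 0 0 = 1 ∧ wcount 5 2 1 0 = 0 := by decide +kernel
  obtain ⟨w1, w2, w3, w4⟩ := hw
  have hA : tot Item.va c + (g 0, 0, 0) ∈ tg11 ∧ tot Item.vc c + (g 0, 0, 0) ∈ tg11 := by
    have h := List.all_eq_true.mp class11 _ (hb 11 (by norm_num)).2
    rw [List.contains_iff_mem, show ((cntVec 11 b).getD 0 0, (cntVec 11 b).getD 1 0, 0) =
      (cnt 11 b (0 : ℕ), cnt 11 b (1 : ℕ), 0) from rfl, h11 0, h11 1, w1, w2] at h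
    rw [tot_map itemOf243 g Item.va _ _ (fun _ => 0) fun o => rfl,
      tot_map itemOf243 g Item.vc _ _ (fun _ => 0) fun o => rfl]
    exact ⟨by simpa [c] using h, by simpa [c] using h⟩
  have hB : tot Item.vb c + (g 0, 0, 0) ∈ tg2 := by
    have h := List.all_eq_true.mp class2 _ hb2'
    rw [List.contains_iff_mem, show ((cntVec 2 b2).getD 0 0, (cntVec 2 b2).getD 1 0, 0) =
      (cnt 2 b2 (0 : ℕ), cnt 2 b2 (1 : ℕ), 0) from rfl, h2 0, h2 1, w3, w4] at h
    rw [tot_map itemOf243 g Item.vb _ _ (fun _ => 0) fun o => rfl]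
    simpa [c] using h
  have hl := search_sound c 248 (g 0) tg11 tg2 tg11 (0, 0, 0) (0, 0, 0)
    (by rw [hc]; exact search243) hd hA.1 hB hA.2
  simp only [leaf243, beq_iff_eq] at hl
  refine hne fun o ho ho0 => ?_
  have hu : used c = 0 := by omega
  have hpos : ∀ p ∈ c, 0 < p.1.dim := fun p hp => by
    have : p.1 ∈ items243 := hc ▸ List.mem_map_of_mem hp
    simpa using List.all_eq_true.mp items243_pos _ this
  rw [hdata, List.mem_cons] at ho
  rcases ho with rfl | ho
  · exact absurd rfl ho0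
  exact used_zero c hu hpos _ (List.mem_map.mpr ⟨o, ho, rfl⟩)

end CfsgLib.E8Three.L2
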